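import Cfsg.Agent.H935.Fi23.Weights
import Cfsg.Agent.H417.DegMTwentyThree
import Cfsg.Agent.H417.RecogMathieu
import Cfsg.Agent.Characters.SchurBound
import Cfsg.Agent.Characters.GaloisBasic
import Cfsg.Agent.CharactersDeep.CosetAverage
import Cfsg.Agent.CharactersDeep.MaxInduced

/-!
# The fixed space of the `2^11` for a character which is not integral at an element of order 23 (helper935)

* `dvd_sub_of_int` : if `χ(x)` is an integer, `x` of prime order `p`, then `χ(1) ≡ χ(x)` mod `p`;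
* `deg_of_not_int` : an irreducible character of `M23` not integral at an element of order 23 has degree 770;
* `fixed_ge` : the multiplicity of the trivial character of `2^11` is at least 770.
-/

set_option autoImplicit false

namespace Cfsg.Agent.H935.Fi23

open scoped Pointwise
open Cfsg Subgroup Cfsg.Agent.KFacts.FiTTh.BasDef
open Cfsg.Agent.Characters.Core Cfsg.Agent.Characters
open Cfsg.Agent.M23Order.Base

universe u

/-- If the value at an element of prime order is an integer, it is congruent to the degree. -/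
theorem dvd_sub_of_int {G : Type u} [Group G] [Finite G] {χ : G → ℂ} (hχ : IsCharacter G χ) {n : ℕ} (hn : χ 1 = n)
    {p : ℕ} (hp : p.Prime) {x : G} (hx : orderOf x = p) {v : ℤ} (hv : χ x = v) : (p : ℤ) ∣ n - v := by
  have := Fintype.ofFinite (zpowers x)
  obtain ⟨m, hm⟩ := SmallSimple.TheoremBCor.exists_sum_eq hχ (zpowers x)
  have hcard : Nat.card (zpowers x) = p := by rw [Nat.card_zpowers, hx]
  have h1 : ∀ y : zpowers x, y ≠ 1 → χ (y : G) = v := by
    rintro ⟨y, hy⟩ hy1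
    obtain ⟨k, hk⟩ := (mem_powers_iff_mem_zpowers.2 hy : y ∈ Submonoid.powers x)
    have hk' : x ^ k = y := hk
    have hcop : k.Coprime p := by
      rw [Nat.coprime_comm, hp.coprime_iff_not_dvd]
      intro hd
      apply hy1
      apply Subtype.ext
      show y = 1
      rw [← hk', ← orderOf_dvd_iff_pow_eq_one, hx]
      exact hd
    obtain ⟨σ, hσ⟩ := GaloisBasic.exists_ringEquiv_pow hp.ne_zero hcop
    have h2 := GaloisBasic.map_apply (σ : ℂ →+* ℂ) hσ hχ hp.ne_zero (by rw [← hx]; exact pow_orderOf_eq_one x)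
    rw [hk', hv] at h2
    show χ y = v
    rw [← h2]
    simp
  have h2 := SmallSimple.TheoremBCor.sum_const_off (f := fun y : zpowers x => χ (y : G)) (c := (v : ℂ)) h1
  rw [hm, hcard] at h2
  have h3 : (m : ℂ) * p = n + (p - 1) * v := by
    rw [h2]
    show χ 1 + _ = _
    rw [hn]
  have h4 : (m : ℤ) * p = n + (p - 1) * v := by exact_mod_cast h3
  exact ⟨m - v, by linear_combination -h4⟩

/-- **`M23`: an irreducible character which is not integral at an element of order 23 has degree 770.** -/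
theorem deg_of_not_int {Q : Type u} [Group Q] [Finite Q] (h : IsM23 Q) (φ : IrrCharacter Q) {x : Q}
    (hx : orderOf x = 23) (hni : ∀ z : ℤ, (φ : Q → ℂ) x ≠ z) : (φ : Q → ℂ) 1 = 770 := by
  obtain ⟨hs, H, z, v, a, b, c, d, g, h, b₁, c₁, K⟩ := H417.DegMTwentyThree.exists_elev' h
  obtain ⟨x₁, x₂, x₃, x₄, x₅, -, -, -, -, -, -, hf⟩ := M23Order.TwentyThree.exists_block K
  have hp : Fact (Nat.Prime 23) := ⟨by norm_num⟩
  have hpg : IsPGroup 23 (zpowers x) := IsPGroup.of_card (n := 1) (by rw [Nat.card_zpowers, hx, pow_one])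
  obtain ⟨R, hR⟩ := hpg.exists_le_sylow
  obtain ⟨k, hk⟩ := MulAction.exists_smul_eq Q R H.P
  have hy : k * x * k⁻¹ ∈ H.P := by
    have h1 : MulAut.conj k • x ∈ MulAut.conj k • (R : Subgroup Q) :=
      Subgroup.smul_mem_pointwise_smul x (MulAut.conj k) _ (hR (mem_zpowers x))
    have h2 : ((H.P : Sylow 23 Q) : Subgroup Q) = MulAut.conj k • (R : Subgroup Q) := by
      rw [← hk, Sylow.smul_def, Sylow.pointwise_smul_def]
    show k * x * k⁻¹ ∈ ((H.P : Sylow 23 Q) : Subgroup Q)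
    rw [h2]
    exact h1
  have hy1 : k * x * k⁻¹ ≠ 1 := by
    intro h1
    have h2 : x = 1 := by
      have := congrArg (fun w => k⁻¹ * w * k) h1
      simpa [mul_assoc] using this
    rw [h2, orderOf_one] at hx
    exact absurd hx (by norm_num)
  have hval : (φ : Q → ℂ) (k * x * k⁻¹) = (φ : Q → ℂ) x := isIrr_isClassFunction φ.2 x k
  by_cases h1 : φ ∈ H.D.NE
  · exact absurd (hval.symm.trans (H.D.val φ h1 _ hy hy1)) (hni _)
  · by_cases h2 : φ ∈ H.D.X
    · have h3 := H.D.deg_X φ h2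
      rw [hf] at h3
      rw [dg_eq, h3]
      norm_num
    · have h3 := H.D.out φ h1 h2 _ hy hy1
      rw [hval] at h3
      exact absurd (h3.trans (by simp : (0 : ℂ) = ((0 : ℤ) : ℂ))) (hni 0)

/-- An irreducible character with a normal subgroup in its kernel comes from the quotient. -/
theorem exists_quot {N : Type u} [Group N] [Finite N] (Z : Subgroup N) [Z.Normal] {θ : N → ℂ}
    (hθ : IsIrrCharacter N θ) (hz : ∀ z ∈ Z, θ z = θ 1) :
    ∃ η : (N ⧸ Z) → ℂ, IsIrrCharacter (N ⧸ Z) η ∧ ∀ n : N, η (n : N ⧸ Z) = θ n := by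
  have hθ' := hθ
  obtain ⟨k, ρ, hρ, hρθ⟩ := hθ'
  have hker : ∀ z ∈ Z, ρ z = 1 := by
    intro z hzz
    have h1 : ρ z = LinearMap.id := by
      rw [← Cfsg.Agent.Characters.Values.character_eq_finrank_iff, hρθ, hz z hzz, ← hρθ]
      simp
    exact h1
  let ρ' : Representation ℂ (N ⧸ Z) (Fin k → ℂ) := QuotientGroup.lift Z ρ hker
  have h2 : θ = ρ'.character ∘ QuotientGroup.mk' Z := by
    rw [← hρθ]
    rfl
  exact ⟨ρ'.character, Cfsg.Agent.CharactersDeep.MaxInduced.isIrr_of_comp (QuotientGroup.mk' Z) ⟨k, ρ', rfl⟩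
    (by rw [← h2]; exact hθ), fun n => by rw [← hρθ]; rfl⟩

/-- A constituent of a character which is constant on a subgroup. -/
theorem apply_eq_of_comb {N : Type u} [Group N] [Finite N] [Fintype (IrrCharacter N)] {ψ : N → ℂ}
    {m : IrrCharacter N → ℕ} (hm : ψ = ∑ φ : IrrCharacter N, m φ • (φ : N → ℂ)) {t : N} (ht : ψ t = ψ 1)
    {φ : IrrCharacter N} (hφ : m φ ≠ 0) : (φ : N → ℂ) t = (φ : N → ℂ) 1 := by
  choose n hn hn1 using fun φ : IrrCharacter N => isIrr_apply_one φ.2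
  have hle : ∀ φ : IrrCharacter N, ‖(φ : N → ℂ) t‖ ≤ n φ := fun φ =>
    Cfsg.Agent.Characters.SchurBound.norm_le (isIrr_isCharacter φ.2) (hn1 φ) t
  have hval : ∀ y : N, ψ y = ∑ φ : IrrCharacter N, (m φ : ℂ) * (φ : N → ℂ) y := by
    intro y
    rw [hm, Finset.sum_apply]
    exact Finset.sum_congr rfl fun φ _ => by rw [Pi.smul_apply, nsmul_eq_mul]
  have h1 : ∑ φ : IrrCharacter N, (m φ : ℝ) * ((n φ : ℝ) - ((φ : N → ℂ) t).re) = 0 := by
    have h2 : (∑ φ : IrrCharacter N, (m φ : ℂ) * ((φ : N → ℂ) 1 - (φ : N → ℂ) t)) = 0 := by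
      rw [Finset.sum_congr rfl fun φ _ => mul_sub _ _ _, Finset.sum_sub_distrib, ← hval, ← hval, ht, sub_self]
    have h3 := congrArg Complex.re h2
    rw [Complex.re_sum, Complex.zero_re] at h3
    rw [← h3]
    refine Finset.sum_congr rfl fun φ _ => ?_
    rw [hn1 φ]
    simp
  have h2 := (Finset.sum_eq_zero_iff_of_nonneg (fun φ _ => mul_nonneg (Nat.cast_nonneg (m φ))
    (sub_nonneg.2 ((Complex.re_le_norm _).trans (hle φ))))).1 h1 φ (Finset.mem_univ _)
  have h3 : ((φ : N → ℂ) t).re = n φ := by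
    rcases mul_eq_zero.1 h2 with h | h
    · exact absurd (by exact_mod_cast h) hφ
    · linarith
  rw [hn1 φ]
  have h4 := hle φ
  have h5 : ((φ : N → ℂ) t).im = 0 := by
    have h6 := Complex.sq_norm ((φ : N → ℂ) t)
    rw [Complex.normSq_apply, h3] at h6
    have h7 : ‖(φ : N → ℂ) t‖ ^ 2 ≤ (n φ : ℝ) ^ 2 := pow_le_pow_left₀ (norm_nonneg _) h4 2
    nlinarith
  exact Complex.ext (by rw [h3]; simp) (by rw [h5]; simp)

variable {K : Type u} [Group K] [Finite K] {e : GolayPt → K}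

/-- **The fixed space of the `2^11`.** -/
theorem fixed_ge (B : Base e) {χ : K → ℂ} (hχ : IsCharacter K χ) {x : K} (hxN : x ∈ normalizer (A e : Set K))
    (hx : orderOf x = 23) (hC : ∀ a ∈ A e, x * a = a * x → a = 1) (hni : ∀ z : ℤ, χ x ≠ z) [Fintype (A e)] :
    ∃ m : ℕ, 770 ≤ m ∧ ∑ a : A e, χ a = 2048 * m := by
  classical
  let N : Subgroup K := normalizer (A e : Set K)
  let T : Subgroup N := B.ind.ker
  have hT : ∀ n : N, n ∈ T ↔ (n : K) ∈ A e := fun n => B.ind_ker n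
  have := Fintype.ofFinite T
  have : Finite (IrrCharacter N) := finite_irr
  have := Fintype.ofFinite (IrrCharacter N)
  have hle : A e ≤ N := le_normalizer
  let eq : T ≃ A e :=
    { toFun := fun n => ⟨((n : N) : K), (hT n).1 n.2⟩
      invFun := fun a => ⟨⟨(a : K), hle a.2⟩, (hT _).2 a.2⟩
      left_inv := fun n => rfl
      right_inv := fun a => rfl }
  have hcT : Nat.card T = 2048 := by rw [Nat.card_congr eq, B.cardA]; norm_num
  have hres : IsCharacter N (fun n : N => χ (n : K)) := isCharacter_comp N.subtype hχ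
  have hψ := Cfsg.Agent.CharactersDeep.CosetAverage.isCharacter_cosetAverage T hres
  set ψ : N → ℂ := fun g => (Nat.card T : ℂ)⁻¹ * ∑ n : T, χ (((n : N) * g : N) : K) with hψd
  obtain ⟨m, hm⟩ := isCharacter_apply_one hψ
  have hψ1 : ψ 1 = m := hm
  have hT0 : (Nat.card T : ℂ) ≠ 0 := by rw [hcT]; norm_num
  have hsum : ∑ a : A e, χ a = 2048 * m := by
    have h1 : (Nat.card T : ℂ)⁻¹ * ∑ n : T, χ (((n : N) * 1 : N) : K) = m := hψ1
    rw [inv_mul_eq_iff_eq_mul₀ hT0, hcT] at h1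
    rw [show (2048 : ℂ) * m = ((2048 : ℕ) : ℂ) * m by norm_num, ← h1]
    refine (Fintype.sum_equiv eq _ _ fun n => ?_).symm
    show χ (((n : N) * 1 : N) : K) = χ ((n : N) : K)
    rw [mul_one]
  refine ⟨m, ?_, hsum⟩
  have hx23 : x ^ 23 = 1 := by rw [← hx]; exact pow_orderOf_eq_one x
  -- the value at `x`
  let xN : N := ⟨x, hxN⟩
  have hconj : ∀ a ∈ A e, ∃ b : K, a * x = b * x * b⁻¹ := by
    have hn : ∀ b ∈ A e, b * (x * b⁻¹ * x⁻¹) ∈ A e := fun b hb =>
      mul_mem hb ((mem_normalizer_iff.1 hxN _).1 (inv_mem hb))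
    let f : A e → A e := fun b => ⟨(b : K) * (x * (b : K)⁻¹ * x⁻¹), hn b b.2⟩
    have hf : Function.Injective f := by
      intro b c hbc
      have h1 : (b : K) * (x * (b : K)⁻¹ * x⁻¹) = (c : K) * (x * (c : K)⁻¹ * x⁻¹) := congrArg Subtype.val hbc
      have h2 : (c : K)⁻¹ * b ∈ A e := mul_mem (inv_mem c.2) b.2
      have h3 : (c : K)⁻¹ * b = x * ((c : K)⁻¹ * b) * x⁻¹ := by
        calc (c : K)⁻¹ * b = (c : K)⁻¹ * ((b : K) * (x * (b : K)⁻¹ * x⁻¹)) * (x * b * x⁻¹) := by group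
          _ = (c : K)⁻¹ * ((c : K) * (x * (c : K)⁻¹ * x⁻¹)) * (x * b * x⁻¹) := by rw [h1]
          _ = _ := by group
      have h4 := hC _ h2 (by
        calc x * ((c : K)⁻¹ * b) = x * ((c : K)⁻¹ * b) * x⁻¹ * x := by group
          _ = _ := by rw [← h3])
      exact Subtype.ext (inv_mul_eq_one.1 h4).symm
    intro a ha
    obtain ⟨b, hb⟩ := (Finite.injective_iff_surjective.1 hf) ⟨a, ha⟩
    refine ⟨b, ?_⟩
    have h1 : (b : K) * (x * (b : K)⁻¹ * x⁻¹) = a := congrArg Subtype.val hb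
    rw [← h1]
    group
  have hψx : ψ xN = χ x := by
    show (Nat.card T : ℂ)⁻¹ * ∑ n : T, χ (((n : N) * xN : N) : K) = χ x
    have h1 : ∀ n : T, χ (((n : N) * xN : N) : K) = χ x := by
      intro n
      obtain ⟨b, hb⟩ := hconj ((n : N) : K) ((hT n).1 n.2)
      show χ (((n : N) : K) * x) = χ x
      rw [hb]
      exact isCharacter_isClassFunction hχ x b
    rw [Finset.sum_congr rfl fun n _ => h1 n, Finset.sum_const, Finset.card_univ, nsmul_eq_mul,
      ← Nat.card_eq_fintype_card, ← mul_assoc, inv_mul_cancel₀ hT0, one_mul]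
  have hψT : ∀ t ∈ T, ψ t = ψ 1 := by
    intro t ht
    have h1 := Cfsg.Agent.CharactersDeep.CosetAverage.cosetAverage_invariant T (fun n : N => χ (n : K)) ⟨t, ht⟩ 1
    show (Nat.card T : ℂ)⁻¹ * ∑ n : T, χ (((n : N) * t : N) : K) = (Nat.card T : ℂ)⁻¹ * ∑ n : T, χ (((n : N) * 1 : N) : K)
    rw [← h1]
    simp only [mul_one]
  -- a constituent
  obtain ⟨c, hc⟩ := exists_nat_comb hψ
  have hval : ∀ y : N, ψ y = ∑ φ : IrrCharacter N, (c φ : ℂ) * (φ : N → ℂ) y := by
    intro y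
    have h1 := congrFun hc y
    rw [Finset.sum_apply] at h1
    refine h1.trans (Finset.sum_congr rfl fun φ _ => by rw [Pi.smul_apply, nsmul_eq_mul])
  obtain ⟨φ, hφ0, hφx⟩ : ∃ φ : IrrCharacter N, c φ ≠ 0 ∧ ∀ z : ℤ, (φ : N → ℂ) xN ≠ z := by
    by_contra hcon
    push Not at hcon
    have h1 : ∀ φ : IrrCharacter N, ∃ z : ℤ, (c φ : ℂ) * (φ : N → ℂ) xN = z := by
      intro φ
      by_cases h0 : c φ = 0
      · exact ⟨0, by rw [h0]; simp⟩
      · obtain ⟨z, hz⟩ := hcon φ h0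
        exact ⟨c φ * z, by rw [hz]; push_cast; ring⟩
    choose z hz using h1
    refine hni (∑ φ, z φ) ?_
    rw [← hψx, hval, Finset.sum_congr rfl fun φ _ => hz φ]
    push_cast
    rfl
  have hker : ∀ t ∈ T, (φ : N → ℂ) t = (φ : N → ℂ) 1 := fun t ht => apply_eq_of_comb hc (hψT t ht) hφ0
  obtain ⟨η, hη, hηφ⟩ := exists_quot T φ.2 hker
  -- the quotient
  have f : (N ⧸ T) ≃* Spor.M23 := QuotientGroup.quotientKerEquivOfSurjective B.ind B.ind_surj
  have hM : IsM23 (N ⧸ T) := H417.RecogMathieu.isM23 ⟨f⟩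
  have hxT : xN ∉ T := by
    intro h1
    have h2 := B.sq_A ((hT xN).1 h1)
    have h3 : x ^ 2 = 1 := by rw [pow_two]; exact h2
    have h4 := orderOf_dvd_of_pow_eq_one h3
    rw [hx] at h4
    omega
  have hox : orderOf (xN : N ⧸ T) = 23 := by
    have hp : Fact (Nat.Prime 23) := ⟨by norm_num⟩
    refine orderOf_eq_prime ?_ ?_
    · rw [← QuotientGroup.mk_pow]
      have : xN ^ 23 = 1 := Subtype.ext hx23
      rw [this]
      rfl
    · intro h1
      exact hxT ((QuotientGroup.eq_one_iff xN).1 h1)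
  have h770 := deg_of_not_int hM (⟨η, hη⟩ : IrrCharacter (N ⧸ T)) hox (fun z => by
    show η (xN : N ⧸ T) ≠ z
    rw [hηφ]
    exact hφx z)
  have hφ1 : (φ : N → ℂ) 1 = 770 := by
    rw [← hηφ 1]
    exact h770
  -- the degree
  choose n hn hn1 using fun φ : IrrCharacter N => isIrr_apply_one φ.2
  have h1 : (m : ℂ) = ((∑ φ : IrrCharacter N, c φ * n φ : ℕ) : ℂ) := by
    rw [← hψ1, hval]
    push_cast
    exact Finset.sum_congr rfl fun φ _ => by rw [hn1]
  have h2 : m = ∑ φ : IrrCharacter N, c φ * n φ := by exact_mod_cast h1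
  have h3 : n φ = 770 := by
    have := hn1 φ
    rw [hφ1] at this
    exact_mod_cast this.symm
  rw [h2]
  calc 770 ≤ c φ * n φ := by rw [h3]; exact Nat.le_mul_of_pos_left _ (Nat.pos_of_ne_zero hφ0)
    _ ≤ _ := Finset.single_le_sum (f := fun φ => c φ * n φ) (fun _ _ => Nat.zero_le _) (Finset.mem_univ φ)

end Cfsg.Agent.H935.Fi23
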