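import Cfsg.Agent.H935.Fi23.Kill
import Cfsg.Agent.H935.Fi23.MPart
import Cfsg.Agent.H174.Ore.Fi23Rk
import Cfsg.Agent.H856.F23.Deg
import Cfsg.Agent.H822.Ore.Fi23Row
import Cfsg.Agent.SmallSimple.InvolColumn

/-!
# `Fi₂₃`: the degrees `± 1` and `± 11` modulo 23 (helper935)

* `exists_d4` : the conditions `D4` for every nontrivial irreducible character;
* `degOn_ne` : the nontrivial degrees `± 1` modulo 23 are at least 30888;
* `degOn_x` : the degrees `± 11` modulo 23 are at least 75000;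
* `t1_fi23` : every element with a centralizer of order at most 39191040 is a commutator.
-/

set_option autoImplicit false
set_option maxRecDepth 100000

namespace Cfsg.Agent.H935.Fi23

open Cfsg Subgroup Cfsg.Agent.KFacts.FiTTh.BasDef
open Cfsg.Agent.KFacts.FiTTh.BasFi (e exists_e e_comm e_inj e_z e_g)
open Cfsg.Agent.KFacts.FiTTh.BasInv (base finite)
open Cfsg.Agent.Characters.Core
open Cfsg.Agent.Fischer.Fi23Z (z0)
open Cfsg.Agent.H511.Ore
open Cfsg.Agent.LThreeFi23 (el)
open Cfsg.Spor (Fi23)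

theorem isConj_e {p : GolayPt} (hp : p ≠ none) : IsConj z0 (e p) := by
  obtain ⟨i, rfl⟩ := Option.ne_none_iff_exists'.1 hp
  obtain ⟨g, -, hg⟩ := exists_e i
  exact isConj_iff.2 ⟨g, hg⟩

/-- the sum over the `2^11` -/
theorem sum_chi {K : Type*} [Group K] {e : GolayPt → K} (B : Base e) [Fintype (A e)] {F : A e → ℂ} {v : ℕ → ℤ}
    (hv : ∀ T : Finset GolayPt, T.card ≤ 3 → none ∉ T → ∀ x : A e, (x : K) = pr e T → F x = v T.card) :
    ∑ x, F x = ((v 0 + 23 * v 1 + 253 * v 2 + 1771 * v 3 : ℤ) : ℂ) := by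
  rw [sum_A B F (fun T => ((v T.card : ℤ) : ℂ)) hv]
  have h1 : ∀ j, ∑ T ∈ U23.powersetCard j, ((v T.card : ℤ) : ℂ) = (Nat.choose 23 j : ℂ) * v j := by
    intro j
    rw [Finset.sum_congr rfl (g := fun _ => ((v j : ℤ) : ℂ)) fun T hT => by rw [(Finset.mem_powersetCard.1 hT).2],
      Finset.sum_const, Finset.card_powersetCard, card_U23, nsmul_eq_mul]
  rw [Finset.sum_congr rfl fun j _ => h1 j, Finset.sum_range_succ, Finset.sum_range_succ, Finset.sum_range_succ,
    Finset.sum_range_one]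
  have c0 : Nat.choose 23 0 = 1 := by decide
  have c1 : Nat.choose 23 1 = 23 := by decide
  have c2 : Nat.choose 23 2 = 253 := by decide
  have c3 : Nat.choose 23 3 = 1771 := by decide
  rw [c0, c1, c2, c3]
  push_cast
  ring

/-- an element of order 23 normalizing the `2^11` -/
theorem exists_x23 : ∃ x ∈ normalizer (A e : Set Fi23), orderOf x = 23 ∧ Nat.card (centralizer ({x} : Set Fi23)) = 23 := by
  have := finite
  have : Fact (Nat.Prime 23) := ⟨by norm_num⟩
  obtain ⟨x, hx⟩ := exists_prime_orderOf_dvd_card' (G := ↥(normalizer (A e : Set Fi23))) 23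
    (by rw [Cfsg.Agent.KFacts.FiTTh.BasInv.cardN]; norm_num)
  have hx' : orderOf (x : Fi23) = 23 := by rw [Subgroup.orderOf_coe, hx]
  refine ⟨x, x.2, hx', ?_⟩
  have h := (Cfsg.Agent.H961.SepFi23.data23 (R := zpowers (x : Fi23)) (by rw [Nat.card_zpowers, hx'])).1
  rwa [zpowers_eq_closure, centralizer_closure] at h

/-- the values at the products of at most three involutions -/
def vv (n a b d : ℤ) (j : ℕ) : ℤ := if j = 0 then n else if j = 1 then a else if j = 2 then b else d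

theorem vv_of {K : Type*} [Group K] {e : GolayPt → K} (B : Base e) {χ : A e → ℂ} {n a b d : ℤ}
    (h0 : χ 1 = n) (h1 : ∀ p : GolayPt, p ≠ none → ∀ x : A e, (x : K) = e p → χ x = a)
    (h2 : ∀ p q : GolayPt, p ≠ none → q ≠ none → p ≠ q → ∀ x : A e, (x : K) = e p * e q → χ x = b)
    (h3 : ∀ p q r : GolayPt, p ≠ none → q ≠ none → r ≠ none → p ≠ q → p ≠ r → q ≠ r →
      ∀ x : A e, (x : K) = e p * e q * e r → χ x = d) (T : Finset GolayPt) (hT : T.card ≤ 3) (hn : none ∉ T)
    (x : A e) (hx : (x : K) = pr e T) : χ x = vv n a b d T.card := by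
  classical
  have h4 : T.card = 0 ∨ T.card = 1 ∨ T.card = 2 ∨ T.card = 3 := by omega
  rcases h4 with h4 | h4 | h4 | h4
  · rw [Finset.card_eq_zero.1 h4, pr_empty] at hx
    have : x = 1 := Subtype.ext hx
    rw [this, h0, h4]
    rfl
  · obtain ⟨p, rfl⟩ := Finset.card_eq_one.1 h4
    rw [pr_singleton] at hx
    rw [h1 p (fun h => hn (by simp [h])) x hx, h4]
    rfl
  · obtain ⟨p, q, hpq, rfl⟩ := Finset.card_eq_two.1 h4
    rw [B.pr_pair hpq] at hx
    rw [h2 p q (fun h => hn (by simp [h])) (fun h => hn (by simp [h])) hpq x hx, h4]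
    rfl
  · obtain ⟨p, q, r, hpq, hpr, hqr, rfl⟩ := Finset.card_eq_three.1 h4
    rw [B.pr_insert (by simp [hpq, hpr]), B.pr_pair hqr, ← mul_assoc] at hx
    rw [h3 p q r (fun h => hn (by simp [h])) (fun h => hn (by simp [h])) (fun h => hn (by simp [h])) hpq hpr hqr
      x hx, h4]
    rfl

/-- an integer value at an element whose centralizer has order 23 is not `± 11` modulo 23 -/
theorem not_int {x : Fi23} (hx : orderOf x = 23) (hC : Nat.card (centralizer ({x} : Set Fi23)) = 23)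
    (χ : IrrCharacter Fi23) {n : ℕ} (hn : (χ : Fi23 → ℂ) 1 = n) (h : (n : ℤ) % 23 = 11 ∨ (n : ℤ) % 23 = 12) (v : ℤ) :
    (χ : Fi23 → ℂ) x ≠ v := by
  intro hv
  have := finite
  have h1 := dvd_sub_of_int (isIrr_isCharacter χ.2) hn (by norm_num : Nat.Prime 23) hx hv
  have h2 := SmallSimple.InvolColumn.sum_norm_sq_le {χ} x
  rw [Finset.sum_singleton, hC, hv, Complex.norm_intCast, sq_abs] at h2
  have h3 : v ^ 2 ≤ 23 := by exact_mod_cast h2
  have h4 : v ≤ 4 := by nlinarith
  have h5 : -4 ≤ v := by nlinarith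
  omega

/-- **The conditions for an irreducible character.** -/
theorem exists_d4 (χ : IrrCharacter Fi23) (hχ : (χ : Fi23 → ℂ) ≠ 1) :
    ∃ a b c d : ℤ, D4 (charDegree (χ : Fi23 → ℂ)) a b c d := by
  classical
  have := finite
  have := Cfsg.Agent.H856.F23.simp23
  have hcomm : commutator Fi23 = ⊤ := by
    have h1 : (commutator Fi23).Normal := inferInstance
    rcases h1.eq_bot_or_eq_top with h | h
    · exfalso
      apply Cfsg.Agent.H856.F23.not_comm23
      have h2 := (commutator_eq_bot_iff_center_eq_top Fi23).1 h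
      refine ⟨⟨fun x y => ?_⟩⟩
      have h3 : x ∈ center Fi23 := by rw [h2]; trivial
      exact (mem_center_iff.1 h3 y).symm
    · exact h
  have hch := isIrr_isCharacter χ.2
  obtain ⟨n, a, b, c, V⟩ := Cfsg.Agent.H174.Ore.Fi23Rk.exists_vals χ
  obtain ⟨f, A', B', T', -, ⟨h1, h2, h3, h4⟩, -, h5, h6, h7, h8, h9⟩ := Cfsg.Agent.H856.F23.vals χ
  have hn : (charDegree (χ : Fi23 → ℂ) : ℤ) = n := V.deg
  have hfn : (f : ℤ) = n := by
    have : ((f : ℤ) : ℂ) = ((n : ℤ) : ℂ) := by rw [← V.one, h1]; push_cast; rfl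
    exact_mod_cast this
  have hcg : IsConj z0 (el .g) := by
    have h := isConj_e (p := some 4) (by simp)
    rw [e_g] at h
    exact h
  have hgz : el .g ≠ el .z := by
    intro h
    have h' : e (some 4) = e (some 13) := by rw [e_g, e_z]; exact h
    exact absurd (e_inj h') (by decide)
  have hgzc : el .g * el .z = el .z * el .g := by
    have h := e_comm (some 4) (some 13)
    rw [e_g, e_z] at h
    exact h
  have hA : A' = a := by
    have h := V.val_d z0 (IsConj.refl _)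
    have h' : ((A' : ℤ) : ℂ) = ((a : ℤ) : ℂ) := by rw [← h, ← h2]; rfl
    exact_mod_cast h'
  have hB : B' = b := by
    have h := V.val_c (el .g) (el .z) hcg (IsConj.refl _) hgz hgzc
    have h' : ((B' : ℤ) : ℂ) = ((b : ℤ) : ℂ) := by rw [← h, ← h3]
    exact_mod_cast h'
  subst hA hB
  rw [hfn] at h5 h6 h7 h8 h9
  have hpos := V.pos
  have hT : T' = c := by
    have h := V.rel
    have h' : n * (n + 3510 * B' + 28160 * c) = n * (n + 3510 * B' + 28160 * T') := by
      rw [← h5, h]; ring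
    have h'' := mul_left_cancel₀ hpos.ne' h'
    omega
  subst hT
  -- the involutions
  have hsq : ∀ T : Finset GolayPt, (pr e T) ^ 2 = 1 := fun T => by rw [pow_two]; exact base.pr_sq T
  have hint : ∀ t : Fi23, t ^ 2 = 1 → ∃ z : ℤ, (χ : Fi23 → ℂ) t = z ∧ |z| ≤ n := by
    intro t ht
    obtain ⟨m, z, e1, e2, e3, -⟩ := SmallSimple.InvolColumn.exists_int_of_char hch ht
    refine ⟨z, e2, ?_⟩
    have : (m : ℤ) = n := by
      have h' : ((m : ℤ) : ℂ) = ((n : ℤ) : ℂ) := by rw [← V.one, e1]; push_cast; rfl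
      exact_mod_cast h'
    rwa [← this]
  have n01 : (some 0 : GolayPt) ≠ some 1 := by decide
  obtain ⟨d, hd, hdn⟩ := hint (pr e {some 0, some 1, some 2}) (hsq _)
  have hc0 : (χ : Fi23 → ℂ) 1 = n := V.one
  have hc1 : ∀ p : GolayPt, p ≠ none → (χ : Fi23 → ℂ) (e p) = A' := fun p hp => V.val_d _ (isConj_e hp)
  have hc2 : ∀ p q : GolayPt, p ≠ none → q ≠ none → p ≠ q → (χ : Fi23 → ℂ) (e p * e q) = B' := fun p q hp hq hpq =>
    V.val_c _ _ (isConj_e hp) (isConj_e hq) (fun h => hpq (e_inj h)) (e_comm p q)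
  have hc3 : ∀ p q r : GolayPt, p ≠ none → q ≠ none → r ≠ none → p ≠ q → p ≠ r → q ≠ r →
      (χ : Fi23 → ℂ) (e p * e q * e r) = d := by
    intro p q r hp hq hr hpq hpr hqr
    have h : e p * e q * e r = pr e {p, q, r} := by
      rw [base.pr_insert (by simp [hpq, hpr]), base.pr_pair hqr, mul_assoc]
    rw [h, ← hd]
    have hcard : ({p, q, r} : Finset GolayPt).card = 3 := Finset.card_eq_three.2 ⟨p, q, r, hpq, hpr, hqr, rfl⟩
    have hcard' : ({some 0, some 1, some 2} : Finset GolayPt).card = 3 := by decide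
    obtain ⟨k, hk⟩ := isConj_iff.1 (Cfsg.Agent.H822.Ore.Fi23Row.isConj_pr (S := {p, q, r})
      (T := {some 0, some 1, some 2}) (by simp [hp.symm, hq.symm, hr.symm]) (by decide) (by rw [hcard, hcard'])
      (by rw [hcard]; norm_num))
    rw [← hk]
    exact (isIrr_isClassFunction χ.2 _ k).symm
  have hB2 := hc2 (some 0) (some 1) (by simp) (by simp) n01
  obtain ⟨zb, hzb, hzbn⟩ := hint (e (some 0) * e (some 1)) (by rw [← base.pr_pair n01]; exact hsq _)
  have hzb' : zb = B' := by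
    have h' : ((zb : ℤ) : ℂ) = ((B' : ℤ) : ℂ) := by rw [← hzb, ← hB2]
    exact_mod_cast h'
  have hz2 : z0 ^ 2 = 1 := by rw [pow_two, ← e_z]; exact Cfsg.Agent.KFacts.FiTTh.BasFi.e_sq _
  have hz1 : z0 ≠ 1 := by rw [← e_z]; exact Cfsg.Agent.KFacts.FiTTh.BasFi.e_ne_one _
  obtain ⟨za, hza, hzan, -⟩ := SmallSimple.InvolColumn.exists_int hcomm χ.2 hχ hz2 hz1
  have hza' : za = A' := by
    have h := V.val_d z0 (IsConj.refl _)
    have h' : ((za : ℤ) : ℂ) = ((A' : ℤ) : ℂ) := by rw [← hza, ← h]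
    exact_mod_cast h'
  rw [hza', hn] at hzan
  -- the weights
  have hres : IsCharacter (A e) (fun x : A e => (χ : Fi23 → ℂ) x) := isCharacter_comp (A e).subtype hch
  have k1 : ∀ p : GolayPt, p ≠ none → ∀ x : A e, (x : Fi23) = e p → (χ : Fi23 → ℂ) x = A' := fun p hp x hx => by
    rw [hx]; exact hc1 p hp
  have k2 : ∀ p q : GolayPt, p ≠ none → q ≠ none → p ≠ q → ∀ x : A e, (x : Fi23) = e p * e q →
      (χ : Fi23 → ℂ) x = B' := fun p q hp hq hpq x hx => by
    rw [hx]; exact hc2 p q hp hq hpq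
  have k3 : ∀ p q r : GolayPt, p ≠ none → q ≠ none → r ≠ none → p ≠ q → p ≠ r → q ≠ r →
      ∀ x : A e, (x : Fi23) = e p * e q * e r → (χ : Fi23 → ℂ) x = d := fun p q r hp hq hr hpq hpr hqr x hx => by
    rw [hx]; exact hc3 p q r hp hq hr hpq hpr hqr
  obtain ⟨w0, w8, w12, w16, e0, e8, e12, e16⟩ := weights base hres (n := n) (a := A') (b := B') (d := d) hc0 k1 k2 k3
  rw [hn]
  refine ⟨A', B', T', d, ?_⟩
  exact {
    ha := hzan.le
    ane := fun h => by rw [h, abs_of_pos hpos] at hzan; exact lt_irrefl _ hzan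
    hb := hzb' ▸ hzbn
    hd := hdn
    rel := h5
    dvd := V.dvd_a
    cs := by have := V.cs; rwa [pow_two] at this
    s3 := by obtain ⟨m, hm⟩ := V.s3; omega
    c7 := h7
    c13 := h8
    c11 := h9
    w0 := ⟨w0, e0⟩
    w8 := ⟨w8, e8⟩
    w12 := ⟨w12, e12⟩
    w16 := ⟨w16, e16⟩
    ex := fun hex => by
      have := Fintype.ofFinite (A e)
      obtain ⟨x, hxN, hx, hC⟩ := exists_x23
      have hdeg : (χ : Fi23 → ℂ) 1 = f := h1
      obtain ⟨m, hm, hs⟩ := fixed_ge base hch hxN hx (fun y hy hxy => by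
        have h1 : y ∈ centralizer ({x} : Set Fi23) := by
          rw [mem_centralizer_singleton_iff]
          exact hxy.symm
        have h2 : orderOf y ∣ 23 := by rw [← hC]; exact Subgroup.orderOf_dvd_natCard _ h1
        have h3 : orderOf y ∣ 2 := orderOf_dvd_of_pow_eq_one (by rw [pow_two]; exact base.sq_A hy)
        have h4 : orderOf y ∣ 1 := by
          have := Nat.dvd_gcd h2 h3
          simpa using this
        exact orderOf_eq_one_iff.1 (Nat.dvd_one.1 h4)) (fun z => not_int hx hC χ hdeg (by rw [hfn]; exact hex) z)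
      have hs' := sum_chi base (F := fun x : A e => (χ : Fi23 → ℂ) x) (v := vv n A' B' d)
        (vv_of base (χ := fun x : A e => (χ : Fi23 → ℂ) x) hc0 k1 k2 k3)
      have v0 : vv n A' B' d 0 = n := rfl
      have v1 : vv n A' B' d 1 = A' := rfl
      have v2 : vv n A' B' d 2 = B' := rfl
      have v3 : vv n A' B' d 3 = d := rfl
      rw [v0, v1, v2, v3] at hs'
      have h' : ((n + 23 * A' + 253 * B' + 1771 * d : ℤ) : ℂ) = ((2048 * m : ℤ) : ℂ) := by
        rw [← hs', hs]
        push_cast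
        rfl
      have h'' : n + 23 * A' + 253 * B' + 1771 * d = 2048 * (m : ℤ) := by exact_mod_cast h'
      rw [h'']
      omega }

/-! ### The sieve -/

/-- the excluded degrees -/
def exl : List ℕ := [288, 714, 748, 1496, 1989, 7072, 7854, 8568, 10880, 12155, 13650, 14144, 17136, 17952, 18480,
  18700, 21504, 24310, 25025, 26520, 37179, 38675, 43758, 68068, 68850]

theorem noDeg (χ : IrrCharacter Fi23) (hχ : (χ : Fi23 → ℂ) ≠ 1) : charDegree (χ : Fi23 → ℂ) ∉ exl := by
  intro h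
  obtain ⟨a, b, c, d, hd⟩ := exists_d4 χ hχ
  simp only [exl, List.mem_cons, List.not_mem_nil, or_false] at h
  rcases h with h | h | h | h | h | h | h | h | h | h | h | h | h | h | h | h | h | h | h | h | h | h | h | h | h <;>
    rw [h] at hd
  · exact no_288 _ _ _ _ hd
  · exact no_714 _ _ _ _ hd
  · exact no_748 _ _ _ _ hd
  · exact no_1496 _ _ _ _ hd
  · exact no_1989 _ _ _ _ hd
  · exact no_7072 _ _ _ _ hd
  · exact no_7854 _ _ _ _ hd
  · exact no_8568 _ _ _ _ hd
  · exact no_10880 _ _ _ _ hd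
  · exact no_12155 _ _ _ _ hd
  · exact no_13650 _ _ _ _ hd
  · exact no_14144 _ _ _ _ hd
  · exact no_17136 _ _ _ _ hd
  · exact no_17952 _ _ _ _ hd
  · exact no_18480 _ _ _ _ hd
  · exact no_18700 _ _ _ _ hd
  · exact no_21504 _ _ _ _ hd
  · exact no_24310 _ _ _ _ hd
  · exact no_25025 _ _ _ _ hd
  · exact no_26520 _ _ _ _ hd
  · exact no_37179 _ _ _ _ hd
  · exact no_38675 _ _ _ _ hd
  · exact no_43758 _ _ _ _ hd
  · exact no_68068 _ _ _ _ hd
  · exact no_68850 _ _ _ _ hd

theorem noDeg' : NoDeg Fi23 exl := by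
  intro χ h
  by_cases hχ : (χ : Fi23 → ℂ) = 1
  · have h1 : charDegree (χ : Fi23 → ℂ) = 1 := by
      have h2 := Blocks.Knorr.charDegree_eq χ.2
      rw [hχ, Pi.one_apply] at h2
      have h3 : ((charDegree (χ : Fi23 → ℂ) : ℕ) : ℂ) = ((1 : ℕ) : ℂ) := by
        rw [Nat.cast_one]
        conv_rhs => rw [h2]
        rw [hχ]
      exact_mod_cast h3
    rw [h1] at h
    exact absurd h (by decide)
  · exact noDeg χ hχ h

/-- the residues modulo 17, 13, 11 -/
def rs (n : ℕ) : Bool := [0, 1, 16].elem (n % 17) && ([0, 1, 12, 2, 11, 6, 7].elem (n % 13) &&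
  [0, 1, 10, 2, 9].elem (n % 11))

open Cfsg.Agent.H856.F23 in
theorem rs_of (χ : IrrCharacter Fi23) : rs (charDegree (χ : Fi23 → ℂ)) = true := by
  have := finite
  have hf := Blocks.Knorr.charDegree_eq χ.2
  obtain ⟨c, hc, -, h3⟩ := vals17 χ
  obtain ⟨f, A', B', T', -, ⟨h1, -, -, -⟩, -, -, -, -, h8, h9⟩ := vals χ
  have hff : f = charDegree (χ : Fi23 → ℂ) := by rw [hf] at h1; exact_mod_cast h1.symm
  rw [hff] at h8 h9
  set n := charDegree (χ : Fi23 → ℂ) with hn
  have e17 := h3 n (by rw [hf]; push_cast; rfl)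
  unfold rs
  simp only [Bool.and_eq_true]
  refine ⟨?_, ?_, ?_⟩
  · have key : n % 17 = 0 ∨ n % 17 = 1 ∨ n % 17 = 16 := by
      rcases hc with rfl | rfl | rfl <;> omega
    rcases key with h | h | h <;> rw [h] <;> decide
  · have key : n % 13 = 0 ∨ n % 13 = 1 ∨ n % 13 = 12 ∨ n % 13 = 2 ∨ n % 13 = 11 ∨ n % 13 = 6 ∨ n % 13 = 7 := by
      unfold C13 at h8
      rw [List.any_eq_true] at h8
      obtain ⟨c, hc, h8⟩ := h8
      rw [List.any_eq_true] at h8
      obtain ⟨t, ht, h8⟩ := h8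
      simp only [Bool.and_eq_true, beq_iff_eq] at h8
      simp only [List.mem_cons, List.not_mem_nil, or_false] at hc ht
      obtain ⟨h8, -, -⟩ := h8
      rcases hc with rfl | rfl | rfl | rfl | rfl <;> rcases ht with rfl | rfl | rfl <;> dsimp only at h8 <;> omega
    rcases key with h | h | h | h | h | h | h <;> rw [h] <;> decide
  · have key : n % 11 = 0 ∨ n % 11 = 1 ∨ n % 11 = 10 ∨ n % 11 = 2 ∨ n % 11 = 9 := by
      unfold C11 at h9
      rw [List.any_eq_true] at h9
      obtain ⟨t, ht, h9⟩ := h9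
      simp only [Bool.and_eq_true, beq_iff_eq] at h9
      simp only [List.mem_cons, List.not_mem_nil, or_false] at ht
      obtain ⟨h9, -, -⟩ := h9
      rcases ht with rfl | rfl | rfl | rfl | rfl | rfl | rfl | rfl | rfl <;> dsimp only at h9 <;> omega
    rcases key with h | h | h | h | h <;> rw [h] <;> decide

/-- the candidates `± 1` modulo 23 -/
def PN (n : ℕ) : Bool := Nat.ble n 30887 && (pNE 23 n && rs n)

/-- the candidates `± 11` modulo 23 -/
def PX (n : ℕ) : Bool := Nat.ble n 74999 && (pX 23 11 n && rs n)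

theorem chkN : Cfsg.Agent.H653.Sieve.allDiv (30888 * 30888) (tstOn PN 0 exl [Cfsg.Agent.H856.F23.cd23])
    Cfsg.Agent.H856.F23.LF 1 = true := by decide +kernel

theorem chkX : Cfsg.Agent.H653.Sieve.allDiv (75000 * 75000) (tstOn PX 0 exl [Cfsg.Agent.H856.F23.cd23])
    Cfsg.Agent.H856.F23.LF 1 = true := by decide +kernel

open Cfsg.Agent.H856.F23 in
theorem degOn_aux {P : ℕ → Bool} {D : ℕ}
    (h : Cfsg.Agent.H653.Sieve.allDiv (D * D) (tstOn P 0 exl [cd23]) LF 1 = true) : DegOn Fi23 P D := by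
  have := finite
  have := simp23
  exact degOn_of_check not_comm23 4089470473293004800 Cfsg.Agent.LThreeFi23.card_G LF (by decide +kernel)
    (by decide +kernel) [cd23] (by decide +kernel) (fun d hd => by rw [List.mem_singleton.1 hd]; exact cd23_has)
    minDeg_zero noDeg' h

/-- **The degrees `± 1` modulo 23.** -/
theorem degOn_ne : DegOn Fi23 (pNE 23) 30888 := by
  intro χ hχ hP
  by_contra hlt
  push Not at hlt
  refine absurd (degOn_aux chkN χ hχ ?_) (by omega)
  unfold PN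
  rw [hP, rs_of χ, Nat.ble_eq_true_of_le (by omega)]
  rfl

/-- **The degrees `± 11` modulo 23.** -/
theorem degOn_x : DegOn Fi23 (pX 23 11) 75000 := by
  intro χ hχ hP
  by_contra hlt
  push Not at hlt
  refine absurd (degOn_aux chkX χ hχ ?_) (by omega)
  unfold PX
  rw [hP, rs_of χ, Nat.ble_eq_true_of_le (by omega)]
  rfl

/-- **`T1` for `Fi₂₃`.** -/
theorem t1_fi23 : T1 Fi23 39191040 :=
  Cfsg.Agent.H822.Ore.Fi23Row.t1_of_deg degOn_ne degOn_x (by norm_num) (by norm_num) (by norm_num)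

end Cfsg.Agent.H935.Fi23
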