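import Mathlib

/-!
# The first three elementary symmetric functions of signs (helper935)
-/

set_option autoImplicit false

namespace Cfsg.Agent.H935.Fi23

open Finset

/-- the `j`-th elementary symmetric function -/
def es {α : Type*} (f : α → ℤ) (U : Finset α) (j : ℕ) : ℤ := ∑ T ∈ U.powersetCard j, ∏ i ∈ T, f i

theorem es_zero {α : Type*} (f : α → ℤ) (U : Finset α) : es f U 0 = 1 := by simp [es]

theorem es_empty {α : Type*} (f : α → ℤ) (j : ℕ) : es f ∅ (j + 1) = 0 := by
  rw [es, powersetCard_eq_empty.2 (by simp)]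
  simp

theorem es_insert {α : Type*} [DecidableEq α] (f : α → ℤ) {U : Finset α} {x : α} (hx : x ∉ U) (j : ℕ) :
    es f (insert x U) (j + 1) = es f U (j + 1) + f x * es f U j := by
  unfold es
  rw [powersetCard_succ_insert hx, sum_union, mul_sum, sum_image]
  · congr 1
    refine sum_congr rfl fun T hT => ?_
    rw [prod_insert fun h => hx ((mem_powersetCard.1 hT).1 h)]
  · intro S hS T hT h
    have h1 : x ∉ S := fun h => hx ((mem_powersetCard.1 hS).1 h)
    have h2 : x ∉ T := fun h => hx ((mem_powersetCard.1 hT).1 h)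
    rw [← erase_insert h1, ← erase_insert h2]
    exact congrArg (fun V => erase V x) h
  · rw [disjoint_left]
    intro T hT h
    obtain ⟨S, -, rfl⟩ := mem_image.1 h
    exact hx ((mem_powersetCard.1 hT).1 (mem_insert_self _ _))

/-- **Newton's identities for signs.** -/
theorem newton {α : Type*} [DecidableEq α] {f : α → ℤ} (hf : ∀ i, f i * f i = 1) (U : Finset α) :
    es f U 1 = ∑ i ∈ U, f i ∧ 2 * es f U 2 = (∑ i ∈ U, f i) ^ 2 - U.card ∧
      6 * es f U 3 = (∑ i ∈ U, f i) ^ 3 - 3 * U.card * (∑ i ∈ U, f i) + 2 * ∑ i ∈ U, f i := by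
  induction U using Finset.induction_on with
  | empty => simp [es_empty]
  | insert x U hx ih =>
    obtain ⟨h1, h2, h3⟩ := ih
    rw [es_insert f hx 0, es_insert f hx 1, es_insert f hx 2, es_zero, sum_insert hx, card_insert_of_notMem hx]
    have h4 := hf x
    generalize ∑ i ∈ U, f i = s at *
    generalize (U.card : ℕ) = c at *
    push_cast
    refine ⟨by rw [h1]; ring, ?_, ?_⟩
    · rw [h1]; linear_combination h2 - h4
    · linear_combination h3 + 3 * f x * h2 - 3 * (f x + s) * h4 + (2 * f x) * h4
end Cfsg.Agent.H935.Fi23
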