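import Cfsg.Agent.H935.Fi23.Num

/-!
# The degrees of `Fi₂₃` below 75000, the excluded numbers (helper935)
-/

set_option autoImplicit false

namespace Cfsg.Agent.H935.Fi23

section
set_option maxRecDepth 100000

theorem no_288 (a b c d : ℤ) : ¬ D4 288 a b c d :=
  kill (n := 288) (g := 32) (G := 9) (J := 1) (L := 1) (by norm_num) (fun a ha => by omega) (by norm_num)
    (by norm_num) (by norm_num) (by norm_num) (by decide +kernel) a b c d

theorem no_714 (a b c d : ℤ) : ¬ D4 714 a b c d :=
  kill (n := 714) (g := 14) (G := 51) (J := 1) (L := 1) (by norm_num) (fun a ha => by omega) (by norm_num)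
    (by norm_num) (by norm_num) (by norm_num) (by decide +kernel) a b c d

theorem no_748 (a b c d : ℤ) : ¬ D4 748 a b c d :=
  kill (n := 748) (g := 44) (G := 17) (J := 1) (L := 1) (by norm_num) (fun a ha => by omega) (by norm_num)
    (by norm_num) (by norm_num) (by norm_num) (by decide +kernel) a b c d

theorem no_1496 (a b c d : ℤ) : ¬ D4 1496 a b c d :=
  kill (n := 1496) (g := 88) (G := 17) (J := 1) (L := 1) (by norm_num) (fun a ha => by omega) (by norm_num)
    (by norm_num) (by norm_num) (by norm_num) (by decide +kernel) a b c d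

theorem no_1989 (a b c d : ℤ) : ¬ D4 1989 a b c d :=
  kill (n := 1989) (g := 13) (G := 153) (J := 1) (L := 1) (by norm_num) (fun a ha => by omega) (by norm_num)
    (by norm_num) (by norm_num) (by norm_num) (by decide +kernel) a b c d

theorem no_7072 (a b c d : ℤ) : ¬ D4 7072 a b c d :=
  kill (n := 7072) (g := 416) (G := 17) (J := 3) (L := 4) (by norm_num) (fun a ha => by omega) (by norm_num)
    (by norm_num) (by norm_num) (by norm_num) (by decide +kernel) a b c d

theorem no_7854 (a b c d : ℤ) : ¬ D4 7854 a b c d :=
  kill (n := 7854) (g := 154) (G := 51) (J := 3) (L := 4) (by norm_num) (fun a ha => by omega) (by norm_num)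
    (by norm_num) (by norm_num) (by norm_num) (by decide +kernel) a b c d

theorem no_8568 (a b c d : ℤ) : ¬ D4 8568 a b c d :=
  kill (n := 8568) (g := 56) (G := 153) (J := 4) (L := 5) (by norm_num) (fun a ha => by omega) (by norm_num)
    (by norm_num) (by norm_num) (by norm_num) (by decide +kernel) a b c d

theorem no_10880 (a b c d : ℤ) : ¬ D4 10880 a b c d :=
  kill (n := 10880) (g := 640) (G := 17) (J := 4) (L := 6) (by norm_num) (fun a ha => by omega) (by norm_num)
    (by norm_num) (by norm_num) (by norm_num) (by decide +kernel) a b c d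

theorem no_12155 (a b c d : ℤ) : ¬ D4 12155 a b c d :=
  kill (n := 12155) (g := 715) (G := 17) (J := 5) (L := 6) (by norm_num) (fun a ha => by omega) (by norm_num)
    (by norm_num) (by norm_num) (by norm_num) (by decide +kernel) a b c d

theorem no_13650 (a b c d : ℤ) : ¬ D4 13650 a b c d :=
  kill (n := 13650) (g := 4550) (G := 3) (J := 5) (L := 7) (by norm_num) (fun a ha => by omega) (by norm_num)
    (by norm_num) (by norm_num) (by norm_num) (by decide +kernel) a b c d

theorem no_14144 (a b c d : ℤ) : ¬ D4 14144 a b c d :=
  kill (n := 14144) (g := 832) (G := 17) (J := 6) (L := 7) (by norm_num) (fun a ha => by omega) (by norm_num)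
    (by norm_num) (by norm_num) (by norm_num) (by decide +kernel) a b c d

theorem no_17136 (a b c d : ℤ) : ¬ D4 17136 a b c d :=
  kill (n := 17136) (g := 112) (G := 153) (J := 7) (L := 9) (by norm_num) (fun a ha => by omega) (by norm_num)
    (by norm_num) (by norm_num) (by norm_num) (by decide +kernel) a b c d

theorem no_17952 (a b c d : ℤ) : ¬ D4 17952 a b c d :=
  kill (n := 17952) (g := 352) (G := 51) (J := 7) (L := 9) (by norm_num) (fun a ha => by omega) (by norm_num)
    (by norm_num) (by norm_num) (by norm_num) (by decide +kernel) a b c d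

theorem no_18480 (a b c d : ℤ) : ¬ D4 18480 a b c d :=
  kill (n := 18480) (g := 6160) (G := 3) (J := 7) (L := 10) (by norm_num) (fun a ha => by omega) (by norm_num)
    (by norm_num) (by norm_num) (by norm_num) (by decide +kernel) a b c d

theorem no_18700 (a b c d : ℤ) : ¬ D4 18700 a b c d :=
  kill (n := 18700) (g := 1100) (G := 17) (J := 7) (L := 10) (by norm_num) (fun a ha => by omega) (by norm_num)
    (by norm_num) (by norm_num) (by norm_num) (by decide +kernel) a b c d

theorem no_21504 (a b c d : ℤ) : ¬ D4 21504 a b c d :=
  kill (n := 21504) (g := 7168) (G := 3) (J := 8) (L := 11) (by norm_num) (fun a ha => by omega) (by norm_num)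
    (by norm_num) (by norm_num) (by norm_num) (by decide +kernel) a b c d

theorem no_24310 (a b c d : ℤ) : ¬ D4 24310 a b c d :=
  kill (n := 24310) (g := 1430) (G := 17) (J := 9) (L := 12) (by norm_num) (fun a ha => by omega) (by norm_num)
    (by norm_num) (by norm_num) (by norm_num) (by decide +kernel) a b c d

theorem no_25025 (a b c d : ℤ) : ¬ D4 25025 a b c d :=
  kill (n := 25025) (g := 25025) (G := 1) (J := 9) (L := 13) (by norm_num) (fun a ha => by omega) (by norm_num)
    (by norm_num) (by norm_num) (by norm_num) (by decide +kernel) a b c d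

theorem no_26520 (a b c d : ℤ) : ¬ D4 26520 a b c d :=
  kill (n := 26520) (g := 520) (G := 51) (J := 10) (L := 13) (by norm_num) (fun a ha => by omega) (by norm_num)
    (by norm_num) (by norm_num) (by norm_num) (by decide +kernel) a b c d

theorem no_37179 (a b c d : ℤ) : ¬ D4 37179 a b c d :=
  kill (n := 37179) (g := 27) (G := 1377) (J := 14) (L := 19) (by norm_num) (fun a ha => by omega) (by norm_num)
    (by norm_num) (by norm_num) (by norm_num) (by decide +kernel) a b c d

theorem no_38675 (a b c d : ℤ) : ¬ D4 38675 a b c d :=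
  kill (n := 38675) (g := 2275) (G := 17) (J := 14) (L := 19) (by norm_num) (fun a ha => by omega) (by norm_num)
    (by norm_num) (by norm_num) (by norm_num) (by decide +kernel) a b c d

theorem no_43758 (a b c d : ℤ) : ¬ D4 43758 a b c d :=
  kill (n := 43758) (g := 286) (G := 153) (J := 16) (L := 22) (by norm_num) (fun a ha => by omega) (by norm_num)
    (by norm_num) (by norm_num) (by norm_num) (by decide +kernel) a b c d

theorem no_68068 (a b c d : ℤ) : ¬ D4 68068 a b c d :=
  kill (n := 68068) (g := 4004) (G := 17) (J := 25) (L := 34) (by norm_num) (fun a ha => by omega) (by norm_num)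
    (by norm_num) (by norm_num) (by norm_num) (by decide +kernel) a b c d

theorem no_68850 (a b c d : ℤ) : ¬ D4 68850 a b c d :=
  kill (n := 68850) (g := 50) (G := 1377) (J := 25) (L := 34) (by norm_num) (fun a ha => by omega) (by norm_num)
    (by norm_num) (by norm_num) (by norm_num) (by decide +kernel) a b c d

end

end Cfsg.Agent.H935.Fi23
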