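import Cfsg.Agent.H856.F23.Vals

/-!
# The degrees of `Fi₂₃` below 75000, enumeration (helper935)

`D4 n a b c d` : the conditions on the degree and the values at 2A, 2B, 3A, 2C.
`kill` : a check that they have no solution for a given `n`.
-/

set_option autoImplicit false

namespace Cfsg.Agent.H935.Fi23

open Cfsg.Agent.H856.F23 (C7 C11 C13)

/-- the conditions -/
structure D4 (n a b c d : ℤ) : Prop where
  ha : |a| ≤ n
  ane : a ≠ n
  hb : |b| ≤ n
  hd : |d| ≤ n
  rel : 31671 * (a * a) = n * (n + 3510 * b + 28160 * c)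
  dvd : n ∣ 31671 * a
  cs : 3510 * (b * b) ≤ n * (n + 693 * b + 2816 * c)
  s3 : (n - c) % 3 = 0
  c7 : C7 n a b c = true
  c13 : C13 n a c = true
  c11 : C11 n a b = true
  w0 : ∃ m : ℕ, (2048 * m : ℤ) = n + 23 * a + 253 * b + 1771 * d
  w8 : ∃ m : ℕ, (2048 * m : ℤ) = n + 7 * a + 13 * b - 21 * d
  w12 : ∃ m : ℕ, (2048 * m : ℤ) = n - a - 11 * b + 11 * d
  w16 : ∃ m : ℕ, (2048 * m : ℤ) = n - 9 * a + 29 * b - 21 * d
  ex : n % 23 = 11 ∨ n % 23 = 12 → 1576960 ≤ n + 23 * a + 253 * b + 1771 * d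

/-- the conditions on `(n, a, b, c)` -/
def f3 (n a b c : ℤ) : Bool :=
  ((n - c) % 3 == 0) && (decide (3510 * (b * b) ≤ n * (n + 693 * b + 2816 * c)) && (C7 n a b c && (C13 n a c &&
    C11 n a b)))

/-- the conditions on `(n, a, b, d)` -/
def f4 (n a b d : ℤ) : Bool :=
  decide (0 ≤ n + 23 * a + 253 * b + 1771 * d) && (decide (0 ≤ n + 7 * a + 13 * b - 21 * d) &&
    (decide (0 ≤ n - a - 11 * b + 11 * d) && (decide (0 ≤ n - 9 * a + 29 * b - 21 * d) &&
      (((n + 7 * a + 13 * b - 21 * d) % 2048 == 0) && (((n - a - 11 * b + 11 * d) % 2048 == 0) &&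
        (((n - 9 * a + 29 * b - 21 * d) % 2048 == 0) &&
          (!(n % 23 == 11 || n % 23 == 12) || decide (1576960 ≤ n + 23 * a + 253 * b + 1771 * d))))))))

/-- the loop over `d` -/
def loopD (n a b : ℤ) (L : ℕ) : Bool :=
  (List.range (2 * L + 1)).all fun l =>
    !(f4 n a b ((-(451) * (n + 23 * a + 253 * b)) % 2048 + 2048 * ((l : ℤ) - L)))

/-- the loop over `b` -/
def loopB (n a R : ℤ) (J L : ℕ) : Bool :=
  (List.range (2 * J + 1)).all fun j =>
    let b := (2463 * R) % 2816 + 2816 * ((j : ℤ) - J)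
    let c := (R - 351 * b) / 2816
    !(f3 n a b c) || loopD n a b L

/-- the loop over `a` -/
def chk (n g G J L : ℕ) : Bool :=
  (List.range (2 * G + 1)).all fun k =>
    let a : ℤ := g * ((k : ℤ) - G)
    let R : ℤ := (31671 * (a * a) / n - n) / 10
    (a == n) || (!((a - (2463 * R) % 2816) % 128 == 0) || loopB n a R J L)

theorem mem_all {p : ℕ → Bool} {m : ℕ} (h : (List.range m).all p = true) {i : ℕ} (hi : i < m) : p i = true :=
  List.all_eq_true.1 h i (List.mem_range.2 hi)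

theorem f3_of {n a b c d : ℤ} (h : D4 n a b c d) : f3 n a b c = true := by
  unfold f3
  simp only [Bool.and_eq_true, beq_iff_eq, decide_eq_true_eq]
  exact ⟨h.s3, h.cs, h.c7, h.c13, h.c11⟩

theorem f4_of {n a b c d : ℤ} (h : D4 n a b c d) : f4 n a b d = true := by
  obtain ⟨m0, h0⟩ := h.w0
  obtain ⟨m8, h8⟩ := h.w8
  obtain ⟨m12, h12⟩ := h.w12
  obtain ⟨m16, h16⟩ := h.w16
  unfold f4
  simp only [Bool.and_eq_true, beq_iff_eq, decide_eq_true_eq, Bool.or_eq_true, Bool.not_eq_true',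
    Bool.or_eq_false_iff, beq_eq_false_iff_ne]
  refine ⟨by omega, by omega, by omega, by omega, by omega, by omega, by omega, ?_⟩
  by_cases h1 : n % 23 = 11 ∨ n % 23 = 12
  · exact Or.inr (h.ex h1)
  · left
    push Not at h1
    exact h1

theorem loopD_false {n a b c d : ℤ} (h : D4 n a b c d) {L : ℕ} (hL : n ≤ 2048 * L) (hl : loopD n a b L = true) :
    False := by
  obtain ⟨m0, h0⟩ := h.w0
  have hd := abs_le.1 h.hd
  have e1 : d = (-(451) * (n + 23 * a + 253 * b)) % 2048 + 2048 * (d / 2048) := by omega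
  have h1 : -(L : ℤ) ≤ d / 2048 := by omega
  have h2 : d / 2048 ≤ L := by omega
  have h3 := mem_all hl (i := (d / 2048 + L).toNat) (by omega)
  have e2 : (((d / 2048 + L).toNat : ℕ) : ℤ) - L = d / 2048 := by omega
  rw [e2, ← e1, f4_of h] at h3
  exact absurd h3 (by decide)

theorem loopB_false {n a b c d R : ℤ} (h : D4 n a b c d) (hR : R = 351 * b + 2816 * c) {J L : ℕ}
    (hJ : n ≤ 2816 * J) (hL : n ≤ 2048 * L) (hl : loopB n a R J L = true) : False := by
  have hb := abs_le.1 h.hb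
  have e1 : b = (2463 * R) % 2816 + 2816 * (b / 2816) := by omega
  have h1 : -(J : ℤ) ≤ b / 2816 := by omega
  have h2 : b / 2816 ≤ J := by omega
  have h3 := mem_all hl (i := (b / 2816 + J).toNat) (by omega)
  have e2 : (((b / 2816 + J).toNat : ℕ) : ℤ) - J = b / 2816 := by omega
  rw [e2, ← e1] at h3
  have e3 : (R - 351 * b) / 2816 = c := by omega
  simp only [e3] at h3
  rw [f3_of h, Bool.not_true, Bool.false_or] at h3
  exact loopD_false h hL h3

/-- **the check** -/
theorem kill {n g G J L : ℕ} (hn : 0 < n) (hg : ∀ a : ℤ, (n : ℤ) ∣ 31671 * a → (g : ℤ) ∣ a) (hG : n ≤ g * G)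
    (hg0 : 0 < g) (hJ : n ≤ 2816 * J) (hL : n ≤ 2048 * L) (hc : chk n g G J L = true) (a b c d : ℤ) :
    ¬ D4 n a b c d := by
  intro h
  obtain ⟨k, hk⟩ := hg a h.dvd
  have ha := abs_le.1 h.ha
  have hG' : (n : ℤ) ≤ g * G := by exact_mod_cast hG
  have hg0' : (0 : ℤ) < g := by exact_mod_cast hg0
  have hn' : (0 : ℤ) < n := by exact_mod_cast hn
  have h1 : -(G : ℤ) ≤ k := by
    by_contra hlt
    push Not at hlt
    nlinarith
  have h2 : k ≤ G := by
    by_contra hlt
    push Not at hlt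
    nlinarith
  have h3 := mem_all hc (i := (k + G).toNat) (by omega)
  have e2 : (((k + G).toNat : ℕ) : ℤ) - G = k := by omega
  have e3 : 31671 * (a * a) / (n : ℤ) = n + 3510 * b + 28160 * c := by
    rw [h.rel]
    exact Int.mul_ediv_cancel_left _ hn'.ne'
  simp only [e2, ← hk] at h3
  rw [e3] at h3
  have e4 : ((n : ℤ) + 3510 * b + 28160 * c - n) / 10 = 351 * b + 2816 * c := by omega
  rw [e4] at h3
  simp only [Bool.or_eq_true, beq_iff_eq, Bool.not_eq_true', beq_eq_false_iff_ne] at h3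
  rcases h3 with h3 | h3 | h3
  · exact h.ane h3
  · apply h3
    obtain ⟨m8, h8⟩ := h.w8
    obtain ⟨m12, h12⟩ := h.w12
    obtain ⟨m16, h16⟩ := h.w16
    have h5 : (2463 * (351 * b + 2816 * c)) % 2816 = b % 2816 := by omega
    rw [h5]
    omega
  · exact loopB_false h rfl (by exact_mod_cast hJ) (by exact_mod_cast hL) h3

end Cfsg.Agent.H935.Fi23
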