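import Cfsg.Agent.H935.Fi23.Esym
import Cfsg.Agent.KFacts.FiTTh.BasInv
import Cfsg.Agent.Characters.Core
import Cfsg.Agent.Characters.Linear
import Cfsg.Agent.SporadicA.GolayBase

/-!
# The weights of the `2^11` in a group with a base of 23 transpositions (helper935)

`weight` : for a character `χ` with values `n`, `a`, `b`, `d` at the products of 0, 1, 2, 3 of the 23 involutions and a
code word `W` without the point `none` the number `n + S₁ a + S₂ b + S₃ d` is `2048` times a natural number, `S_j` the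
elementary symmetric functions of the signs of `W`.
-/

set_option autoImplicit false

namespace Cfsg.Agent.H935.Fi23

open Cfsg Subgroup Cfsg.Agent.KFacts.FiTTh.BasDef Cfsg.Agent.SporadicA.GolayBase
open Cfsg.Agent.Characters.Core Cfsg.Agent.Characters.Linear
open Cfsg.Agent.J4Type.DuadStab (card_symmDiff_parity)

/-- the sign of a point -/
def sg (W : Finset GolayPt) (p : GolayPt) : ℤ := if p ∈ W then -1 else 1

theorem sg_sq (W : Finset GolayPt) (p : GolayPt) : sg W p * sg W p = 1 := by
  unfold sg; split_ifs <;> norm_num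

/-- the sign of a set -/
def sgn (W T : Finset GolayPt) : ℤ := ∏ p ∈ T, sg W p

theorem sgn_eq (W T : Finset GolayPt) : sgn W T = (-1) ^ (T ∩ W).card := by
  classical
  unfold sgn sg
  rw [Finset.prod_ite, Finset.prod_const, Finset.prod_const_one, mul_one, Finset.filter_mem_eq_inter]

theorem sgn_sq (W T : Finset GolayPt) : sgn W T * sgn W T = 1 := by
  unfold sgn
  rw [← Finset.prod_mul_distrib]
  exact Finset.prod_eq_one fun p _ => sg_sq W p

theorem sgn_symmDiff (W S T : Finset GolayPt) : sgn W (symmDiff S T) = sgn W S * sgn W T := by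
  classical
  have h1 : sgn W S = sgn W (S \ T) * sgn W (S ∩ T) := by
    unfold sgn
    rw [← Finset.prod_union (Finset.disjoint_sdiff_inter S T), Finset.sdiff_union_inter]
  have h2 : sgn W T = sgn W (T \ S) * sgn W (S ∩ T) := by
    unfold sgn
    rw [Finset.inter_comm, ← Finset.prod_union (Finset.disjoint_sdiff_inter T S), Finset.sdiff_union_inter]
  have h3 : sgn W (symmDiff S T) = sgn W (S \ T) * sgn W (T \ S) := by
    unfold sgn
    rw [symmDiff_def, Finset.sup_eq_union, Finset.prod_union]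
    exact disjoint_sdiff_sdiff
  rw [h1, h2, h3]
  linear_combination (-(sgn W (S \ T) * sgn W (T \ S))) * sgn_sq W (S ∩ T)

theorem sgn_code {W S : Finset GolayPt} (hW : W ∈ supports (golayCode : Set (GolayPt → ZMod 2)))
    (hS : S ∈ supports (golayCode : Set (GolayPt → ZMod 2))) : sgn W S = 1 := by
  classical
  rw [sgn_eq]
  have h1 := card_of_mem_supports hW
  have h2 := card_of_mem_supports hS
  have h3 := card_of_mem_supports (symmDiff_mem_supports hS hW)
  have h4 : (symmDiff S W).card + 2 * (S ∩ W).card = S.card + W.card := by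
    have h6 := Finset.card_sdiff_add_card_inter S W
    have h7 := Finset.card_sdiff_add_card_inter W S
    rw [Finset.inter_comm W S] at h7
    have h8 : (symmDiff S W).card = (S \ W).card + (W \ S).card := by
      rw [symmDiff_def, Finset.sup_eq_union, Finset.card_union_of_disjoint disjoint_sdiff_sdiff]
    omega
  have h5 : Even (S ∩ W).card := by
    rw [Nat.even_iff]
    omega
  exact h5.neg_one_pow

theorem sgn_insert_none {W T : Finset GolayPt} (hn : none ∉ W) : sgn W (symmDiff T {none}) = sgn W T := by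
  rw [sgn_symmDiff]
  have : sgn W {none} = 1 := by simp [sgn, sg, hn]
  rw [this, mul_one]

variable {K : Type*} [Group K] {e : GolayPt → K}

theorem sgn_wd (B : Base e) {W S T : Finset GolayPt} (hW : W ∈ supports (golayCode : Set (GolayPt → ZMod 2)))
    (hn : none ∉ W) (h : pr e S = pr e T) : sgn W S = sgn W T := by
  classical
  have h1 : pr e (symmDiff S T) = 1 := by rw [B.pr_symmDiff, h, B.pr_sq]
  have key : sgn W (symmDiff S T) = 1 := by
    by_cases hev : Even (symmDiff S T).card
    · exact sgn_code hW ((B.toPre.ker_iff hev).1 h1)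
    · rw [← sgn_insert_none hn]
      refine sgn_code hW ((B.toPre.ker_iff ?_).1 (by rw [B.toPre.pr_none, h1]))
      rw [Nat.even_iff] at hev ⊢
      have h2 := card_symmDiff_parity (symmDiff S T) {none}
      rw [Finset.card_singleton] at h2
      omega
  rw [sgn_symmDiff] at key
  have h2 := sgn_sq W T
  linear_combination sgn W T * key - sgn W S * h2

/-- the linear character of a code word -/
noncomputable def lam (B : Base e) {W : Finset GolayPt} (hW : W ∈ supports (golayCode : Set (GolayPt → ZMod 2)))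
    (hn : none ∉ W) : A e →* ℂˣ :=
  MonoidHom.mk' (fun x => Units.mk0 ((sgn W (Classical.choose (B.toPre.exists_pr' x.2)) : ℤ) : ℂ) (by
      intro h
      have h1 := sgn_sq W (Classical.choose (B.toPre.exists_pr' x.2))
      have h2 : sgn W (Classical.choose (B.toPre.exists_pr' x.2)) = 0 := by exact_mod_cast h
      rw [h2] at h1
      norm_num at h1)) (by
    intro x y
    apply Units.ext
    simp only [Units.val_mk0, Units.val_mul]
    rw [← Int.cast_mul, ← sgn_symmDiff]
    congr 1
    apply sgn_wd B hW hn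
    rw [B.pr_symmDiff, ← Classical.choose_spec (B.toPre.exists_pr' x.2), ← Classical.choose_spec (B.toPre.exists_pr' y.2),
      ← Classical.choose_spec (B.toPre.exists_pr' (x * y).2)]
    rfl)

theorem lam_apply (B : Base e) {W : Finset GolayPt} (hW : W ∈ supports (golayCode : Set (GolayPt → ZMod 2)))
    (hn : none ∉ W) (T : Finset GolayPt) (x : A e) (hx : (x : K) = pr e T) :
    ((lam B hW hn x : ℂˣ) : ℂ) = ((sgn W T : ℤ) : ℂ) := by
  show ((sgn W (Classical.choose (B.toPre.exists_pr' x.2)) : ℤ) : ℂ) = _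
  congr 1
  apply sgn_wd B hW hn
  rw [← Classical.choose_spec (B.toPre.exists_pr' x.2), hx]

/-- the 23 points -/
def U23 : Finset GolayPt := Finset.univ.erase none

theorem card_U23 : U23.card = 23 := by decide +kernel

/-- the sum over the `2^11` -/
theorem sum_A (B : Base e) [Fintype (A e)] (F : A e → ℂ) (G : Finset GolayPt → ℂ)
    (hG : ∀ T : Finset GolayPt, T.card ≤ 3 → none ∉ T → ∀ x : A e, (x : K) = pr e T → F x = G T) :
    ∑ x, F x = ∑ j ∈ Finset.range 4, ∑ T ∈ U23.powersetCard j, G T := by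
  classical
  rw [← Finset.sum_biUnion fun i _ j _ hij => Finset.pairwise_disjoint_powersetCard U23 hij]
  have hmem : ∀ T : Finset GolayPt, T ∈ (Finset.range 4).biUnion (fun j => U23.powersetCard j) ↔
      none ∉ T ∧ T.card ≤ 3 := by
    intro T
    simp only [Finset.mem_biUnion, Finset.mem_range, Finset.mem_powersetCard, U23]
    constructor
    · rintro ⟨j, hj, hT, rfl⟩
      exact ⟨fun h => Finset.notMem_erase _ _ (hT h), by omega⟩
    · rintro ⟨h1, h2⟩
      exact ⟨T.card, by omega, fun p hp => Finset.mem_erase.2 ⟨fun h => h1 (h ▸ hp), Finset.mem_univ _⟩, rfl⟩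
  symm
  refine Finset.sum_bij (fun T _ => (⟨pr e T, B.pr_mem T⟩ : A e)) (fun _ _ => Finset.mem_univ _) ?_ ?_ ?_
  · intro S hS T hT h
    obtain ⟨h1, h2⟩ := (hmem S).1 hS
    obtain ⟨h3, h4⟩ := (hmem T).1 hT
    exact B.toPre.pr_inj h1 h2 h3 h4 (congrArg Subtype.val h)
  · intro x _
    obtain ⟨T, h1, h2, h3⟩ := B.toPre.exists_pr x.2
    exact ⟨T, (hmem T).2 ⟨h1, h2⟩, Subtype.ext h3.symm⟩
  · intro T hT
    obtain ⟨h1, h2⟩ := (hmem T).1 hT
    exact (hG T h2 h1 _ rfl).symm

/-- **the weight of a code word** -/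
theorem weight (B : Base e) {χ : A e → ℂ} (hχ : IsCharacter (A e) χ) {v : ℕ → ℤ}
    (hv : ∀ T : Finset GolayPt, T.card ≤ 3 → none ∉ T → ∀ x : A e, (x : K) = pr e T → χ x = v T.card)
    {W : Finset GolayPt} (hW : W ∈ supports (golayCode : Set (GolayPt → ZMod 2))) (hn : none ∉ W) :
    ∃ m : ℕ, (2048 * m : ℤ) = ∑ j ∈ Finset.range 4, v j * es (sg W) U23 j := by
  classical
  have := B.toPre.finA
  have := Fintype.ofFinite (A e)
  obtain ⟨m, hm⟩ := classInner_isNat hχ (isCharacter_hom (lam B hW hn))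
  refine ⟨m, ?_⟩
  rw [classInner_def] at hm
  have hc : (Nat.card (A e) : ℂ) = 2048 := by rw [B.toPre.cardA]; norm_num
  rw [hc, inv_mul_eq_iff_eq_mul₀ (by norm_num)] at hm
  have h1 := sum_A B (fun x => χ x * (starRingEnd ℂ) ((lam B hW hn x : ℂˣ) : ℂ))
    (fun T => ((v T.card : ℤ) : ℂ) * ((sgn W T : ℤ) : ℂ)) (fun T h1 h2 x hx => by
      show χ x * (starRingEnd ℂ) ((lam B hW hn x : ℂˣ) : ℂ) = _
      rw [hv T h1 h2 x hx, lam_apply B hW hn T x hx]
      simp)
  have h2 : ((2048 * m : ℤ) : ℂ) = ((∑ j ∈ Finset.range 4, v j * es (sg W) U23 j : ℤ) : ℂ) := by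
    push_cast
    rw [← hm]
    refine h1.trans ?_
    refine Finset.sum_congr rfl fun j _ => ?_
    rw [es, Int.cast_sum, Finset.mul_sum]
    refine Finset.sum_congr rfl fun T hT => ?_
    rw [(Finset.mem_powersetCard.1 hT).2]
    rfl
  exact_mod_cast h2

/-- the sum of the signs -/
theorem sum_sg {W : Finset GolayPt} (hn : none ∉ W) : ∑ p ∈ U23, sg W p = 23 - 2 * W.card := by
  classical
  have hsub : W ⊆ U23 := fun p hp => Finset.mem_erase.2 ⟨fun h => hn (h ▸ hp), Finset.mem_univ _⟩
  unfold sg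
  rw [Finset.sum_ite, Finset.filter_mem_eq_inter, Finset.filter_notMem_eq_sdiff, Finset.inter_eq_right.2 hsub,
    Finset.sum_const, Finset.sum_const, Finset.card_sdiff_of_subset hsub, card_U23]
  have h1 : W.card ≤ 23 := by rw [← card_U23]; exact Finset.card_le_card hsub
  simp only [nsmul_eq_mul]
  push_cast [Nat.cast_sub h1]
  ring

/-- the weights of the code words of weight 0, 8, 12, 16 -/
theorem weights (B : Base e) {χ : A e → ℂ} (hχ : IsCharacter (A e) χ) {n a b d : ℤ}
    (h0 : χ 1 = n) (h1 : ∀ p : GolayPt, p ≠ none → ∀ x : A e, (x : K) = e p → χ x = a)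
    (h2 : ∀ p q : GolayPt, p ≠ none → q ≠ none → p ≠ q → ∀ x : A e, (x : K) = e p * e q → χ x = b)
    (h3 : ∀ p q r : GolayPt, p ≠ none → q ≠ none → r ≠ none → p ≠ q → p ≠ r → q ≠ r →
      ∀ x : A e, (x : K) = e p * e q * e r → χ x = d) :
    ∃ w0 w8 w12 w16 : ℕ, (2048 * w0 : ℤ) = n + 23 * a + 253 * b + 1771 * d ∧
      (2048 * w8 : ℤ) = n + 7 * a + 13 * b - 21 * d ∧ (2048 * w12 : ℤ) = n - a - 11 * b + 11 * d ∧
      (2048 * w16 : ℤ) = n - 9 * a + 29 * b - 21 * d := by
  classical
  let v : ℕ → ℤ := fun j => if j = 0 then n else if j = 1 then a else if j = 2 then b else d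
  have hv : ∀ T : Finset GolayPt, T.card ≤ 3 → none ∉ T → ∀ x : A e, (x : K) = pr e T → χ x = v T.card := by
    intro T hT hn x hx
    have h4 : T.card = 0 ∨ T.card = 1 ∨ T.card = 2 ∨ T.card = 3 := by omega
    rcases h4 with h4 | h4 | h4 | h4
    · rw [Finset.card_eq_zero.1 h4, pr_empty] at hx
      have : x = 1 := Subtype.ext hx
      rw [this, h0, h4]
      rfl
    · obtain ⟨p, rfl⟩ := Finset.card_eq_one.1 h4
      rw [pr_singleton] at hx
      rw [h1 p (fun h => hn (by simp [h])) x hx, h4]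
      rfl
    · obtain ⟨p, q, hpq, rfl⟩ := Finset.card_eq_two.1 h4
      rw [B.pr_pair hpq] at hx
      rw [h2 p q (fun h => hn (by simp [h])) (fun h => hn (by simp [h])) hpq x hx, h4]
      rfl
    · obtain ⟨p, q, r, hpq, hpr, hqr, rfl⟩ := Finset.card_eq_three.1 h4
      rw [B.pr_insert (by simp [hpq, hpr]), B.pr_pair hqr, ← mul_assoc] at hx
      rw [h3 p q r (fun h => hn (by simp [h])) (fun h => hn (by simp [h])) (fun h => hn (by simp [h])) hpq hpr hqr
        x hx, h4]
      rfl
  have key : ∀ m k : ℕ, m < 2 ^ 24 → Cfsg.Agent.SporadicA.GolayBase.isCode m = true → popcount m = k →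
      none ∉ fin m → ∃ w : ℕ, ∃ s : ℤ, s = 23 - 2 * k ∧
        (12 * (2048 * w) : ℤ) = 12 * n + 12 * s * a + 6 * (s ^ 2 - 23) * b + 2 * (s ^ 3 - 67 * s) * d := by
    intro m k hm hcode hk hn
    obtain ⟨w, hw⟩ := weight B hχ hv ((fin_mem_supports_iff hm).2 hcode) hn
    refine ⟨w, 23 - 2 * k, rfl, ?_⟩
    have h5 := sum_sg hn
    rw [card_fin, hk] at h5
    obtain ⟨h6, h7, h8⟩ := newton (sg_sq (fin m)) U23
    rw [h5] at h6 h7 h8
    rw [card_U23] at h7 h8
    rw [Finset.sum_range_succ, Finset.sum_range_succ, Finset.sum_range_succ, Finset.sum_range_one, es_zero, h6] at hw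
    have v0 : v 0 = n := rfl
    have v1 : v 1 = a := rfl
    have v2 : v 2 = b := rfl
    have v3 : v 3 = d := rfl
    rw [v0, v1, v2, v3] at hw
    push_cast at h7 h8
    linear_combination 12 * hw + 6 * b * h7 + 2 * d * h8
  obtain ⟨w0, s0, hs0, e0⟩ := key 0 0 (by norm_num) (by decide +kernel) (by decide +kernel) (by decide +kernel)
  obtain ⟨w8, s8, hs8, e8⟩ := key 5279 8 (by norm_num) (by decide +kernel) (by decide +kernel) (by decide +kernel)
  obtain ⟨w12, s12, hs12, e12⟩ := key 28637 12 (by norm_num) (by decide +kernel) (by decide +kernel) (by decide +kernel)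
  obtain ⟨w16, s16, hs16, e16⟩ := key 515069 16 (by norm_num) (by decide +kernel) (by decide +kernel) (by decide +kernel)
  rw [hs0] at e0
  rw [hs8] at e8
  rw [hs12] at e12
  rw [hs16] at e16
  refine ⟨w0, w8, w12, w16, ?_, ?_, ?_, ?_⟩
  · norm_num at e0; linarith
  · norm_num at e8; linarith
  · norm_num at e12; linarith
  · norm_num at e16; linarith

end Cfsg.Agent.H935.Fi23
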